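import Cfsg.Agent.ThIndex62.Setup
import Cfsg.Agent.ThIndex62.Data.Pts
import Cfsg.Agent.ThIndex62.Data.Chains
import Cfsg.Agent.ThIndex62.Data.Par9

/-! The forest of node 9 checked. -/

set_option autoImplicit false
set_option maxRecDepth 100000

namespace CfsgLib.ThIndex62

open CfsgLib.ThModel83

theorem node9_ok_0 :
    rangeB (nodePtOK theCode Data.cert Data.nfacts live 9 Data.pts Data.kg9 Data.par9 npts) 0 1075 = true := by decide +kernel

theorem node9_ok_1 :
    rangeB (nodePtOK theCode Data.cert Data.nfacts live 9 Data.pts Data.kg9 Data.par9 npts) 1075 1075 = true := by decide +kernel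

theorem node9_ok_2 :
    rangeB (nodePtOK theCode Data.cert Data.nfacts live 9 Data.pts Data.kg9 Data.par9 npts) 2150 1075 = true := by decide +kernel

theorem node9_ok_3 :
    rangeB (nodePtOK theCode Data.cert Data.nfacts live 9 Data.pts Data.kg9 Data.par9 npts) 3225 1075 = true := by decide +kernel

theorem node9_ok_4 :
    rangeB (nodePtOK theCode Data.cert Data.nfacts live 9 Data.pts Data.kg9 Data.par9 npts) 4300 1075 = true := by decide +kernel

theorem node9_ok_5 :
    rangeB (nodePtOK theCode Data.cert Data.nfacts live 9 Data.pts Data.kg9 Data.par9 npts) 5375 1075 = true := by decide +kernel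

theorem node9_ok_6 :
    rangeB (nodePtOK theCode Data.cert Data.nfacts live 9 Data.pts Data.kg9 Data.par9 npts) 6450 1075 = true := by decide +kernel

theorem node9_ok_7 :
    rangeB (nodePtOK theCode Data.cert Data.nfacts live 9 Data.pts Data.kg9 Data.par9 npts) 7525 1075 = true := by decide +kernel

theorem node9_ok_8 :
    rangeB (nodePtOK theCode Data.cert Data.nfacts live 9 Data.pts Data.kg9 Data.par9 npts) 8600 1075 = true := by decide +kernel

theorem node9_ok_9 :
    rangeB (nodePtOK theCode Data.cert Data.nfacts live 9 Data.pts Data.kg9 Data.par9 npts) 9675 1075 = true := by decide +kernel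

theorem node9_ok_10 :
    rangeB (nodePtOK theCode Data.cert Data.nfacts live 9 Data.pts Data.kg9 Data.par9 npts) 10750 1075 = true := by decide +kernel

theorem node9_ok_11 :
    rangeB (nodePtOK theCode Data.cert Data.nfacts live 9 Data.pts Data.kg9 Data.par9 npts) 11825 1075 = true := by decide +kernel

theorem node9_ok_12 :
    rangeB (nodePtOK theCode Data.cert Data.nfacts live 9 Data.pts Data.kg9 Data.par9 npts) 12900 1075 = true := by decide +kernel

theorem node9_ok_13 :
    rangeB (nodePtOK theCode Data.cert Data.nfacts live 9 Data.pts Data.kg9 Data.par9 npts) 13975 1075 = true := by decide +kernel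

theorem node9_ok_14 :
    rangeB (nodePtOK theCode Data.cert Data.nfacts live 9 Data.pts Data.kg9 Data.par9 npts) 15050 1075 = true := by decide +kernel

theorem node9_ok_15 :
    rangeB (nodePtOK theCode Data.cert Data.nfacts live 9 Data.pts Data.kg9 Data.par9 npts) 16125 1074 = true := by decide +kernel

theorem node9_ok : ∀ p < npts, nodePtOK theCode Data.cert Data.nfacts live 9 Data.pts Data.kg9 Data.par9 npts p = true := by
  intro p hp
  simp only [npts] at hp
  by_cases h0 : p < 1075
  · exact rangeB_spec node9_ok_0 p (by omega) (by omega)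
  by_cases h1 : p < 2150
  · exact rangeB_spec node9_ok_1 p (by omega) (by omega)
  by_cases h2 : p < 3225
  · exact rangeB_spec node9_ok_2 p (by omega) (by omega)
  by_cases h3 : p < 4300
  · exact rangeB_spec node9_ok_3 p (by omega) (by omega)
  by_cases h4 : p < 5375
  · exact rangeB_spec node9_ok_4 p (by omega) (by omega)
  by_cases h5 : p < 6450
  · exact rangeB_spec node9_ok_5 p (by omega) (by omega)
  by_cases h6 : p < 7525
  · exact rangeB_spec node9_ok_6 p (by omega) (by omega)
  by_cases h7 : p < 8600
  · exact rangeB_spec node9_ok_7 p (by omega) (by omega)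
  by_cases h8 : p < 9675
  · exact rangeB_spec node9_ok_8 p (by omega) (by omega)
  by_cases h9 : p < 10750
  · exact rangeB_spec node9_ok_9 p (by omega) (by omega)
  by_cases h10 : p < 11825
  · exact rangeB_spec node9_ok_10 p (by omega) (by omega)
  by_cases h11 : p < 12900
  · exact rangeB_spec node9_ok_11 p (by omega) (by omega)
  by_cases h12 : p < 13975
  · exact rangeB_spec node9_ok_12 p (by omega) (by omega)
  by_cases h13 : p < 15050
  · exact rangeB_spec node9_ok_13 p (by omega) (by omega)
  by_cases h14 : p < 16125
  · exact rangeB_spec node9_ok_14 p (by omega) (by omega)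
  exact rangeB_spec node9_ok_15 p (by omega) (by omega)

end CfsgLib.ThIndex62
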