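import Cfsg.Agent.ThIndex62.Setup
import Cfsg.Agent.ThIndex62.Data.Chains

/-! Chains checked. -/

set_option autoImplicit false
set_option maxRecDepth 100000

namespace CfsgLib.ThIndex62

open CfsgLib.ThModel83

theorem cim_ok : (Data.clvls.all plvlOK && chainB [] (Data.clvls.map PLvl.toLvl) Data.csrcs) = true := by decide +kernel

theorem cim_src : psrcOK Data.clvl0 Data.csrc1 Data.clvl1.gens = true := by decide +kernel

theorem chain1_ok : chainB [] Data.n1lvls Data.n1srcs = true := by decide +kernel

theorem fix1_ok : fixFactOK Data.cert Data.nfacts 1 Data.kg1 Data.n1lvl0.gens = true := by decide +kernel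

theorem size1_ok : chainSize Data.n1lvls = 36864 := by decide +kernel

theorem chain2_ok : chainB [] Data.n2lvls Data.n2srcs = true := by decide +kernel

theorem fix2_ok : fixFactOK Data.cert Data.nfacts 2 Data.kg2 Data.n2lvl0.gens = true := by decide +kernel

theorem size2_ok : chainSize Data.n2lvls = 13824 := by decide +kernel

theorem chain3_ok : chainB [] Data.n3lvls Data.n3srcs = true := by decide +kernel

theorem fix3_ok : fixFactOK Data.cert Data.nfacts 3 Data.kg3 Data.n3lvl0.gens = true := by decide +kernel

theorem size3_ok : chainSize Data.n3lvls = 288 := by decide +kernel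

theorem chain4_ok : chainB [] Data.n4lvls Data.n4srcs = true := by decide +kernel

theorem fix4_ok : fixFactOK Data.cert Data.nfacts 4 Data.kg4 Data.n4lvl0.gens = true := by decide +kernel

theorem size4_ok : chainSize Data.n4lvls = 486 := by decide +kernel

theorem chain5_ok : chainB [] Data.n5lvls Data.n5srcs = true := by decide +kernel

theorem fix5_ok : fixFactOK Data.cert Data.nfacts 5 Data.kg5 Data.n5lvl0.gens = true := by decide +kernel

theorem size5_ok : chainSize Data.n5lvls = 6 := by decide +kernel

theorem chain6_ok : chainB [] Data.n6lvls Data.n6srcs = true := by decide +kernel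

theorem fix6_ok : fixFactOK Data.cert Data.nfacts 6 Data.kg6 Data.n6lvl0.gens = true := by decide +kernel

theorem size6_ok : chainSize Data.n6lvls = 54 := by decide +kernel

theorem chain7_ok : chainB [] Data.n7lvls Data.n7srcs = true := by decide +kernel

theorem fix7_ok : fixFactOK Data.cert Data.nfacts 7 Data.kg7 Data.n7lvl0.gens = true := by decide +kernel

theorem size7_ok : chainSize Data.n7lvls = 126 := by decide +kernel

theorem chain8_ok : chainB [] Data.n8lvls Data.n8srcs = true := by decide +kernel

theorem fix8_ok : fixFactOK Data.cert Data.nfacts 8 Data.kg8 Data.n8lvl0.gens = true := by decide +kernel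

theorem size8_ok : chainSize Data.n8lvls = 78 := by decide +kernel

theorem chain9_ok : chainB [] Data.n9lvls Data.n9srcs = true := by decide +kernel

theorem fix9_ok : fixFactOK Data.cert Data.nfacts 9 Data.kg9 Data.n9lvl0.gens = true := by decide +kernel

theorem size9_ok : chainSize Data.n9lvls = 72 := by decide +kernel

theorem chain10_ok : chainB [] Data.n10lvls Data.n10srcs = true := by decide +kernel

theorem fix10_ok : fixFactOK Data.cert Data.nfacts 10 Data.kg10 Data.n10lvl0.gens = true := by decide +kernel

theorem size10_ok : chainSize Data.n10lvls = 3528 := by decide +kernel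

theorem csize_ok : chainSize (Data.clvls.map PLvl.toLvl) = 36864 := by decide +kernel

end CfsgLib.ThIndex62
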