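import Cfsg.Agent.ThIndex62.Setup

/-! Facts replayed. -/

set_option autoImplicit false
set_option maxRecDepth 100000

namespace CfsgLib.ThIndex62

open CfsgLib.ThModel83

theorem facts_ok_12_0 : DCert22.rangeOK theCode Data.cert 4140 173 = true := by decide +kernel

theorem facts_ok_12_1 : DCert22.rangeOK theCode Data.cert 4313 172 = true := by decide +kernel


end CfsgLib.ThIndex62
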